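import Groth.Agent.CartanPre.Field
import Groth.Agent.TorusField.Main
import Groth.Agent.NonAffine.BorelTori
import Groth.Agent.MaxTorCent.Basic
import Groth.Agent.SolvGrp.GrothMax
import Groth.Agent.GrpSchLib.ImageFactor
import Groth.Agent.S7997

/-!
# Borel subgroups under a surjective homomorphism with central kernel over an algebraically closed field
-/

set_option backward.isDefEq.respectTransparency false
set_option backward.isDefEq.respectTransparency.types false
set_option linter.style.haveILetI false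
set_option autoImplicit false
set_option maxHeartbeats 1000000
set_option synthInstance.maxHeartbeats 200000

universe u

open CategoryTheory Limits MonoidalCategory CartesianMonoidalCategory MonObj AlgebraicGeometry
open scoped commutatorElement

namespace Groth.Agent.CartanPre

open GrpSchLib AGFLib AGFLib.Gen

/-- A group with a homomorphism to a solvable group with central kernel is solvable. -/
theorem isSolvableGrp_of_central_kernel {S : Scheme.{u}} {E B : Over S} [GrpObj E] [GrpObj B] (f : E ⟶ B) [IsMonHom f]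
    (hf : ∀ (X : Over S) (z : X ⟶ E), z ≫ f = 1 → ∀ g : X ⟶ E, z * g = g * z) (h : Red.IsSolvableGrp B) :
    Red.IsSolvableGrp E := by
  obtain ⟨n, hn⟩ := h
  refine ⟨n + 1, fun X => ?_⟩
  let φ : (X ⟶ E) →* (X ⟶ B) := MonoidHom.mk' (· ≫ f) fun x y => MonObj.mul_comp x y f
  have hle : derivedSeries (X ⟶ E) n ≤ Subgroup.center (X ⟶ E) := fun x hx => by
    have h1 : φ x ∈ derivedSeries (X ⟶ B) n := map_derivedSeries_le_derivedSeries φ n ⟨x, hx, rfl⟩
    rw [hn X, Subgroup.mem_bot] at h1
    exact Subgroup.mem_center_iff.mpr fun g => (hf X x h1 g).symm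
  rw [derivedSeries_succ, eq_bot_iff, Subgroup.commutator_le]
  intro x hx y _
  rw [Subgroup.mem_bot, commutatorElement_eq_one_iff_mul_comm]
  exact (Subgroup.mem_center_iff.mp (hle hx) y).symm

variable {K : Type u} [Field K] [IsAlgClosed K]

/-- A Borel subgroup contains a Cartan subgroup of the group. -/
theorem exists_cartan_in_borel {G B : Over (Spec (CommRingCat.of K))} [GrpObj G] [GrpObj B] [Smooth G.hom]
    [QuasiCompact G.hom] [ConnectedSpace G.left] {b : B ⟶ G} (hB : Red.IsBorelOver K b) :
    ∃ (C : Over (Spec (CommRingCat.of K))) (_ : GrpObj C) (c : C ⟶ B), SGA3x.IsCartanOver K (c ≫ b) := by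
  haveI := hB.2.1; haveI := hB.2.2.1; haveI := hB.2.2.2.1
  haveI : QuasiCompact B.hom := by rw [← Over.w b]; infer_instance
  haveI := AntiAffine.isSeparated_grp B
  obtain ⟨T, _, t, ht⟩ := NonAffine.exists_maxTorus (G := B)
  have ht' := NonAffine.isMaximalTorus_of_isMaxTorus ht
  haveI := ht'.1
  obtain ⟨C, _, c, hc, -, -⟩ := MaxTorCent.exists_centralizer t (TorusQI.isMultTypeFT_of_isTorus ht'.2.2.1)
  exact ⟨C, inferInstance, c, NonAffine.isCartanOver_of_borel hB ⟨hc.1, hc.2.1, T, inferInstance, t, ht', hc⟩⟩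

variable {G G' : Over (Spec (CommRingCat.of K))} [GrpObj G] [GrpObj G'] [Smooth G.hom] [QuasiCompact G.hom]
  [ConnectedSpace G.left] [Smooth G'.hom] [QuasiCompact G'.hom] (u : G ⟶ G') [IsMonHom u] [Flat u.left]
  [Surjective u.left]
  (hker : ∀ (X : Over (Spec (CommRingCat.of K))) (z : X ⟶ G), z ≫ u = 1 → ∀ g : X ⟶ G, z * g = g * z)

include hker in
/-- The preimage of a smooth connected solvable closed subgroup containing a Cartan subgroup. -/
theorem preimage_solvable {H' C' E : Over (Spec (CommRingCat.of K))} [GrpObj H'] [GrpObj C'] [GrpObj E]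
    (h' : H' ⟶ G') [IsMonHom h'] [IsClosedImmersion h'.left] [Smooth H'.hom] (hHc : ConnectedSpace H'.left)
    (hHs : Red.IsSolvableGrp H') (c' : C' ⟶ H') (hC' : SGA3x.IsCartanOver K (c' ≫ h'))
    (f : E ⟶ H') (g : E ⟶ G) [IsMonHom f] [IsMonHom g] (sq : IsPullback f g h' u) :
    IsClosedImmersion g.left ∧ Smooth E.hom ∧ ConnectedSpace E.left ∧ Red.IsSolvableGrp E := by
  haveI : Mono h' := haveI : Mono h'.left := inferInstance; Over.mono_of_mono_left _
  haveI : QuasiCompact H'.hom := by rw [← Over.w h']; infer_instance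
  obtain ⟨hs, -, hc⟩ := preimage_field u hker h' c' hC' f g sq
  haveI : Mono g := sq.mono_snd_of_mono
  refine ⟨MorphismProperty.of_isPullback (P := @IsClosedImmersion) (sq.map (Over.forget _)) ‹_›, hs, hc hHc, ?_⟩
  refine isSolvableGrp_of_central_kernel f (fun X z hz x => ?_) hHs
  rw [← cancel_mono g, MonObj.mul_comp, MonObj.mul_comp]
  exact hker X (z ≫ g) (by rw [Category.assoc, ← sq.w, reassoc_of% hz, MonObj.one_comp]) _

include hker in
/-- The preimage of a Borel subgroup is a Borel subgroup. -/
theorem isBorelOver_preimage {B' B : Over (Spec (CommRingCat.of K))} [GrpObj B'] [GrpObj B] {b' : B' ⟶ G'}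
    (hB' : Red.IsBorelOver K b') (v : B ⟶ B') (b : B ⟶ G) [IsMonHom v] [IsMonHom b] (sq : IsPullback v b b' u) :
    Red.IsBorelOver K b := by
  haveI := AntiAffine.isSeparated_grp G
  haveI := AntiAffine.isSeparated_grp G'
  haveI : ConnectedSpace G'.left := u.left.surjective.connectedSpace u.left.continuous
  obtain ⟨C', _, c', hC'⟩ := exists_cartan_in_borel hB'
  have hb'm := hB'.1; have hb'c := hB'.2.1; have hB's := hB'.2.2.1; have hB'conn := hB'.2.2.2.1
  have hB'sol := hB'.2.2.2.2.1
  haveI := hb'm; haveI := hb'c; haveI := hB's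
  have sqL : IsPullback v.left b.left b'.left u.left := sq.map (Over.forget _)
  haveI hvs : Surjective v.left := MorphismProperty.of_isPullback (P := @Surjective) sqL.flip ‹Surjective u.left›
  obtain ⟨hbc, hBs, hBconn, hBsol⟩ := preimage_solvable u hker b' hB'conn hB'sol c' hC' v b sq
  refine ⟨inferInstance, hbc, hBs, hBconn, hBsol, fun B₂ _ i₂ _ e hc₂ hs₂ hconn₂ hsol₂ he => ?_⟩
  haveI := hc₂; haveI := hs₂; haveI := hconn₂
  haveI : QuasiCompact B₂.hom := by rw [← Over.w i₂]; infer_instance
  obtain ⟨I, _, p, iI, hp, hiI, hpi, hiIc, hpf, hps, hIl, hIq⟩ := GrpSchLib.ImageFactor.exists_image (i₂ ≫ u)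
  haveI := hp; haveI := hiI; haveI := hiIc; haveI := hpf; haveI := hps; haveI := hIl; haveI := hIq
  haveI : Smooth I.hom := haveI : Smooth (p.left ≫ I.hom) := by rw [Over.w p]; infer_instance
    GrpSchLib.smooth_of_flat_surjective_algClosed (K := K) p.left I.hom
  haveI : ConnectedSpace I.left := p.left.surjective.connectedSpace p.left.continuous
  have hIsol : Red.IsSolvableGrp I := Groth.Agent.S7997.result K B₂ I p hsol₂
  haveI : IsReduced B'.left := isReduced_of_smooth_field B'.hom
  obtain ⟨l, hl⟩ := H23.RedSub.exists_lift_closed b'.left iI.left (by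
    rintro _ ⟨y, rfl⟩
    obtain ⟨x, rfl⟩ := v.left.surjective y
    refine ⟨p.left (e.left x), ?_⟩
    rw [← Scheme.Hom.comp_apply, ← Over.comp_left, ← Scheme.Hom.comp_apply, ← Over.comp_left, hpi,
      reassoc_of% he, ← sq.w, Over.comp_left, Scheme.Hom.comp_apply])
  let e' : B' ⟶ I := Over.homMk l (by rw [← Over.w iI, reassoc_of% hl, Over.w b'])
  have he' : e' ≫ iI = b' := Over.OverMorphism.ext hl
  haveI := hB'.2.2.2.2.2 I iI e' hiIc inferInstance inferInstance hIsol he'
  let back : B₂ ⟶ B := sq.lift (p ≫ inv e') i₂ (by rw [← he', Category.assoc, IsIso.inv_hom_id_assoc, hpi])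
  haveI : Mono b := haveI := hbc; haveI : Mono b.left := inferInstance; Over.mono_of_mono_left _
  haveI : Mono i₂ := haveI : Mono i₂.left := inferInstance; Over.mono_of_mono_left _
  exact ⟨back, by rw [← cancel_mono b, Category.assoc, sq.lift_snd, he, Category.id_comp],
    by rw [← cancel_mono i₂, Category.assoc, he, sq.lift_snd, Category.id_comp]⟩

include hker in
/-- The image of a Borel subgroup saturated under the kernel is a Borel subgroup. -/
theorem isBorelOver_image {B' B : Over (Spec (CommRingCat.of K))} [GrpObj B'] [GrpObj B] {b : B ⟶ G}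
    (hB : Red.IsBorelOver K b) (b' : B' ⟶ G') [IsMonHom b'] [Mono b'] (v : B ⟶ B') [IsMonHom v]
    (sq : IsPullback v b b' u) : Red.IsBorelOver K b' := by
  haveI := AntiAffine.isSeparated_grp G
  haveI := AntiAffine.isSeparated_grp G'
  haveI : ConnectedSpace G'.left := u.left.surjective.connectedSpace u.left.continuous
  obtain ⟨C, _, c, hC⟩ := exists_cartan_in_borel hB
  have hbm := hB.1; have hbc := hB.2.1; have hBs := hB.2.2.1; have hBconn := hB.2.2.2.1
  have hBsol := hB.2.2.2.2.1
  haveI := hbm; haveI := hbc; haveI := hBs; haveI := hBconn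
  haveI : Mono b := haveI : Mono b.left := inferInstance; Over.mono_of_mono_left _
  haveI : LocallyOfFinitePresentation u.left := by
    haveI : LocallyOfFinitePresentation (u.left ≫ G'.hom) := by rw [Over.w]; infer_instance
    exact AlgSpPts.locallyOfFinitePresentation_of_comp u.left G'.hom
  haveI : QuasiCompact u.left := by
    haveI : QuasiCompact (u.left ≫ G'.hom) := by rw [Over.w]; infer_instance
    exact QuasiCompact.of_comp u.left G'.hom
  have sqL : IsPullback v.left b.left b'.left u.left := sq.map (Over.forget _)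
  haveI : Surjective v.left := MorphismProperty.of_isPullback (P := @Surjective) sqL.flip ‹Surjective u.left›
  haveI : Flat v.left := MorphismProperty.of_isPullback (P := @Flat) sqL.flip ‹Flat u.left›
  haveI hb'c : IsClosedImmersion b'.left := by
    haveI := EtFound.fpqc_isClosedImmersion.{u}
    exact MorphismProperty.of_isPullback_of_descendsAlong (P := @IsClosedImmersion)
      (Q := @Surjective ⊓ @Flat ⊓ @QuasiCompact) sqL.flip ⟨⟨inferInstance, inferInstance⟩, inferInstance⟩ hbc
  haveI : QuasiCompact B'.hom := by rw [← Over.w b']; infer_instance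
  haveI : QuasiCompact B.hom := by rw [← Over.w b]; infer_instance
  haveI : LocallyOfFiniteType B'.hom := by rw [← Over.w b']; infer_instance
  haveI : Smooth B'.hom := haveI : Smooth (v.left ≫ B'.hom) := by rw [Over.w v]; infer_instance
    GrpSchLib.smooth_of_flat_surjective_algClosed (K := K) v.left B'.hom
  haveI : ConnectedSpace B'.left := v.left.surjective.connectedSpace v.left.continuous
  have hB'sol : Red.IsSolvableGrp B' := Groth.Agent.S7997.result K B B' v hBsol
  refine ⟨inferInstance, hb'c, inferInstance, inferInstance, hB'sol, fun H' _ h' _ e hc₂ hs₂ hconn₂ hsol₂ he => ?_⟩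
  haveI := hc₂; haveI := hs₂; haveI := hconn₂
  haveI : Mono h' := haveI : Mono h'.left := inferInstance; Over.mono_of_mono_left _
  haveI : QuasiCompact H'.hom := by rw [← Over.w h']; infer_instance
  -- the image of the Cartan subgroup
  haveI := hC.1; haveI := hC.2.1
  haveI : IsMonHom c := MaxTorusBC.isMonHom_of_mono c b hC.1
  obtain ⟨hCs, hCc⟩ : Smooth C.hom ∧ ConnectedSpace C.left := by
    obtain ⟨-, -, T, _, i, hT, hcen⟩ := hC
    haveI := hT.1
    exact NonAffine.smooth_connected_centralizer i hT.2.2.1 hcen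
  haveI := hCs
  haveI : QuasiCompact C.hom := by
    obtain ⟨-, -, T, _, i, hT, hcen⟩ := hC
    haveI := hT.1
    obtain ⟨C₀, _, c₀, hc₀, hc₀c, -⟩ := MaxTorCent.exists_centralizer i (TorusQI.isMultTypeFT_of_isTorus hT.2.2.1)
    haveI := hc₀c
    obtain ⟨ε, hε⟩ := SolvGrp.centralizer_unique hcen hc₀
    haveI : IsIso ε.hom.left := inferInstanceAs (IsIso ((Over.forget _).map ε.hom))
    rw [← Over.w ε.hom, ← Over.w c₀]; infer_instance
  obtain ⟨J, _, w, jJ, hw, hjJ, hwj, hjJc, hwf, hws, hJl, -⟩ :=
    GrpSchLib.ImageFactor.exists_image (c ≫ b ≫ u)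
  haveI := hw; haveI := hjJ; haveI := hjJc; haveI := hwf; haveI := hws
  haveI : Mono jJ := haveI : Mono jJ.left := inferInstance; Over.mono_of_mono_left _
  have hJC : SGA3x.IsCartanOver K jJ := NonAffine.isCartanOver_image u hC jJ w (by rw [hwj, Category.assoc])
  haveI : LocallyOfFiniteType J.hom := hJl
  haveI : Smooth J.hom := haveI : Smooth (w.left ≫ J.hom) := by rw [Over.w w]; infer_instance
    GrpSchLib.smooth_of_flat_surjective_algClosed (K := K) w.left J.hom
  haveI : IsReduced J.left := isReduced_of_smooth_field J.hom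
  obtain ⟨lJ, hlJ⟩ := H23.RedSub.exists_lift_closed jJ.left h'.left (by
    rintro _ ⟨y, rfl⟩
    obtain ⟨x, rfl⟩ := w.left.surjective y
    refine ⟨e.left (v.left (c.left x)), ?_⟩
    simp only [← Scheme.Hom.comp_apply, ← Over.comp_left, Category.assoc, hwj, he, sq.w])
  let cJ : J ⟶ H' := Over.homMk lJ (by rw [← Over.w h', reassoc_of% hlJ, Over.w jJ])
  have hcJ : cJ ≫ h' = jJ := Over.OverMorphism.ext hlJ
  -- the preimage of the larger subgroup
  let E : Over (Spec (CommRingCat.of K)) := Over.mk (pullback.fst h'.left u.left ≫ H'.hom)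
  let f : E ⟶ H' := Over.homMk (pullback.fst h'.left u.left) rfl
  let g : E ⟶ G := Over.homMk (pullback.snd h'.left u.left) (by
    show pullback.snd h'.left u.left ≫ G.hom = pullback.fst h'.left u.left ≫ H'.hom
    rw [← Over.w u, ← Over.w h', ← Category.assoc, ← pullback.condition, Category.assoc])
  have sqE : IsPullback f g h' u :=
    IsPullback.of_map (Over.forget _) (Over.OverMorphism.ext pullback.condition) (IsPullback.of_hasPullback _ _)
  haveI : Mono g := sqE.mono_snd_of_mono
  obtain ⟨strE, hgm, hfm⟩ := TorusField.exists_grp_pullback u h' g f sqE.flip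
  letI := strE
  haveI := hgm; haveI := hfm
  obtain ⟨hgc, hEs, hEconn, hEsol⟩ := preimage_solvable u hker h' hconn₂ hsol₂ cJ (by rw [hcJ]; exact hJC) f g sqE
  let e₂ : B ⟶ E := sqE.lift (v ≫ e) b (by rw [Category.assoc, he, sq.w])
  haveI := hB.2.2.2.2.2 E g e₂ hgc hEs hEconn hEsol (sqE.lift_snd _ _ _)
  haveI : IsReduced H'.left := isReduced_of_smooth_field H'.hom
  haveI : Surjective f.left :=
    MorphismProperty.of_isPullback (P := @Surjective) (sqE.map (Over.forget _)).flip ‹Surjective u.left›
  obtain ⟨l, hl⟩ := H23.RedSub.exists_lift_closed h'.left b'.left (by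
    rintro _ ⟨y, rfl⟩
    obtain ⟨x, rfl⟩ := f.left.surjective y
    refine ⟨v.left ((inv e₂).left x), ?_⟩
    simp only [← Scheme.Hom.comp_apply, ← Over.comp_left]
    rw [Category.assoc, sq.w, sqE.w, show inv e₂ ≫ b ≫ u = g ≫ u by
      rw [IsIso.inv_comp_eq, ← Category.assoc, sqE.lift_snd]])
  refine ⟨Over.homMk l (by rw [← Over.w b', reassoc_of% hl, Over.w h']), ?_, ?_⟩
  · rw [← cancel_mono b', Category.assoc, show (Over.homMk l _ : H' ⟶ B') ≫ b' = h' from Over.OverMorphism.ext hl,
      he, Category.id_comp]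
  · rw [← cancel_mono h', Category.assoc, he, show (Over.homMk l _ : H' ⟶ B') ≫ b' = h' from Over.OverMorphism.ext hl,
      Category.id_comp]

end Groth.Agent.CartanPre
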