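import Groth.Agent.DescLib.IndQAEff
import Groth.Agent.FpqcDescLib.Closed
import Groth.Agent.MaxTorusBC.Basic

/-!
# Descent of a saturated monomorphism along a faithfully flat morphism
-/

set_option backward.isDefEq.respectTransparency false
set_option backward.isDefEq.respectTransparency.types false
set_option linter.style.haveILetI false
set_option autoImplicit false
set_option maxHeartbeats 1000000
set_option synthInstance.maxHeartbeats 200000

universe u

open CategoryTheory Limits AlgebraicGeometry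

namespace Groth.Agent.CartanPre

/-- A monomorphism locally of finite type saturated for a faithfully flat quasi-compact morphism descends. -/
theorem exists_descend_saturated {B X Y : Scheme.{u}} (p : X ⟶ Y) [Surjective p] [Flat p] [QuasiCompact p]
    (j : B ⟶ X) [Mono j] [LocallyOfFiniteType j]
    (hkey : ∀ (T : Scheme.{u}) (a b : T ⟶ X), a ≫ p = b ≫ p → (∃ l, l ≫ j = a) → ∃ l, l ≫ j = b) :
    ∃ (Z : Scheme.{u}) (i : Z ⟶ Y) (q : B ⟶ Z), Mono i ∧ IsPullback q j i p := by
  have key : ∀ {T : Scheme.{u}} (x₀ x₁ : T ⟶ X) (_ : x₀ ≫ p = x₁ ≫ p) (_ : Desc.Lifts (Over.mk j) x₀),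
      Nonempty (Desc.Lifts (Over.mk j) x₁) := fun {T} x₀ x₁ h v => by
    obtain ⟨l, hl⟩ := hkey T x₀ x₁ h ⟨v.1, v.2⟩
    exact ⟨⟨l, hl⟩⟩
  have ext : ∀ {T : Scheme.{u}} {x : T ⟶ X} (v v' : Desc.Lifts (Over.mk j) x), v = v' := fun {T x} v v' =>
    Subtype.ext ((cancel_mono j).mp (v.2.trans v'.2.symm))
  let D : Desc.SchDD p :=
    { obj := Over.mk j
      φ := fun T x₀ x₁ h =>
        { toFun := fun v => (key x₀ x₁ h v).some
          invFun := fun v => (key x₁ x₀ h.symm v).some
          left_inv := fun v => ext _ _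
          right_inv := fun v => ext _ _ }
      φ_natural := fun T T' g x₀ x₁ h h' v v' _ =>
        congrArg Subtype.val (ext _ (⟨g ≫ ((key x₀ x₁ h v).some).1,
          (Category.assoc _ _ _).trans (congrArg (g ≫ ·) ((key x₀ x₁ h v).some).2)⟩ : Desc.Lifts (Over.mk j) (g ≫ x₁)))
      φ_self := fun T x v => ext _ _
      φ_comp := fun T x₀ x₁ x₂ h₀₁ h₁₂ v => ext _ _ }
  have hD : MoreMor.IsIndQuasiAffineHom D.obj.hom := by
    show MoreMor.IsIndQuasiAffineHom j
    exact MorLib.IQA.indQA_of_locallyQuasiFinite j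
  haveI hP : DescLib.IndQA.indQA.IsStableUnderBaseChange := inferInstance
  obtain ⟨U, ⟨I⟩⟩ := DescLib.effective_single DescLib.IndQA.indQA
    (fun _ _ q _ _ _ _ E h => DescLib.IndQA.effective_indQA_hom q E h) p D hD
  let ε : pullback p U.hom ⟶ B := I.hom.hom.left
  let ε' : B ⟶ pullback p U.hom := I.inv.hom.left
  have hεε : ε' ≫ ε = 𝟙 _ := congrArg (fun m : D ⟶ D => m.hom.left) I.inv_hom_id
  have hεε' : ε ≫ ε' = 𝟙 _ := congrArg (fun m => m.hom.left) I.hom_inv_id
  have hεj : ε ≫ j = pullback.fst p U.hom := Over.w I.hom.hom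
  let e : B ≅ pullback p U.hom := ⟨ε', ε, hεε, hεε'⟩
  have he : e.hom ≫ pullback.fst p U.hom = j := by rw [← hεj]; simp [e, reassoc_of% hεε]
  refine ⟨U.left, U.hom, ε' ≫ pullback.snd p U.hom, ⟨fun {P} m₁ m₂ hm => ?_⟩, ?_⟩
  · haveI : Mono (pullback.fst p U.hom) := by rw [← hεj]; haveI : IsIso ε := ⟨ε', hεε', hεε⟩; exact mono_comp _ _
    have hc : FpqcDescLib.Covers (pullback.snd p (m₁ ≫ U.hom)) :=
      (FpqcDescLib.covers_of_isCovering (FpqcDescLib.isCovering_of_quasiCompact p)).pullback (m₁ ≫ U.hom) _ _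
        (IsPullback.of_hasPullback p (m₁ ≫ U.hom)).flip
    haveI := hc.epi
    rw [← cancel_epi (pullback.snd p (m₁ ≫ U.hom))]
    have h1 : pullback.lift (pullback.fst p (m₁ ≫ U.hom)) (pullback.snd p (m₁ ≫ U.hom) ≫ m₁)
          (by rw [Category.assoc, ← pullback.condition]) =
        pullback.lift (pullback.fst p (m₁ ≫ U.hom)) (pullback.snd p (m₁ ≫ U.hom) ≫ m₂)
          (by rw [Category.assoc, ← hm, ← pullback.condition]) := by
      rw [← cancel_mono (pullback.fst p U.hom), pullback.lift_fst, pullback.lift_fst]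
    have h2 := congrArg (· ≫ pullback.snd p U.hom) h1
    simpa only [pullback.lift_snd] using h2
  · refine (IsPullback.of_iso_pullback ⟨?_⟩ e he rfl).flip
    rw [Category.assoc, ← pullback.condition, ← Category.assoc]
    exact congrArg (· ≫ p) he.symm

end Groth.Agent.CartanPre
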