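import Groth.Agent.CartanPre.Field
import Groth.Agent.FixTorus.Conn
import Groth.Agent.TorusField.Main
import Groth.Agent.TorusQI.FibreIso

/-!
# Preimages of subgroups whose fibres contain Cartan subgroups
-/

set_option backward.isDefEq.respectTransparency false
set_option backward.isDefEq.respectTransparency.types false
set_option linter.style.haveILetI false
set_option autoImplicit false
set_option maxHeartbeats 1000000
set_option synthInstance.maxHeartbeats 200000

universe u

open CategoryTheory Limits MonoidalCategory CartesianMonoidalCategory MonObj AlgebraicGeometry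

namespace Groth.Agent.CartanPre

open GrpSchLib GrpLimLib

variable {S : Scheme.{u}}

/-- A homomorphism of smooth groups surjective and flat on the fibres is surjective, flat and of finite
presentation. -/
theorem flat_surjective_of_fibres {G G' : Over S} [GrpObj G] [GrpObj G'] [Smooth G.hom] [Smooth G'.hom]
    (u : G ⟶ G') [IsMonHom u]
    (hu : ∀ s : S, Surjective ((Over.pullback (S.fromSpecResidueField s)).map u).left) :
    Flat u.left ∧ Surjective u.left ∧ LocallyOfFinitePresentation u.left := by
  haveI hs : Surjective u.left := ⟨fun x => by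
    obtain ⟨y, hy⟩ : x ∈ Set.range (pullback.fst G'.hom (S.fromSpecResidueField (G'.hom x))) := by
      rw [Scheme.Pullback.range_fst, Scheme.range_fromSpecResidueField]
      rfl
    obtain ⟨z, hz⟩ := (hu (G'.hom x)).surj y
    refine ⟨pullback.fst G.hom (S.fromSpecResidueField (G'.hom x)) z, ?_⟩
    refine Eq.trans ?_ ((congrArg _ hz).trans hy)
    refine (Scheme.Hom.comp_apply _ _ _).symm.trans (Eq.trans ?_ (Scheme.Hom.comp_apply _ _ _))
    exact congrArg (fun m : pullback G.hom (S.fromSpecResidueField (G'.hom x)) ⟶ G'.left => m z) (GrpLimLib.map_left_fst (h := S.fromSpecResidueField (G'.hom x)) u).symm⟩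
  haveI : GeometricallyReduced G'.hom := GrpSchLib.IsogenyFibre.geometricallyReduced_of_smooth' G'.hom
  refine ⟨(GrpSchLib.HomFlatLft.flat_hom u).1, hs, ?_⟩
  haveI : LocallyOfFinitePresentation (u.left ≫ G'.hom) := by rw [Over.w]; infer_instance
  exact AlgSpPts.locallyOfFinitePresentation_of_comp u.left G'.hom

/-- Smoothness of a flat scheme of finite presentation with smooth geometric fibres. -/
theorem smooth_of_geomFibres (X : Over S) [Flat X.hom] [LocallyOfFinitePresentation X.hom]
    (h : ∀ s : S, Smooth (Red.geomFibre s X).hom) : Smooth X.hom := by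
  refine Smooth.of_smooth_fiberToSpecResidueField X.hom fun s => ?_
  let q := pullback.snd X.hom (S.fromSpecResidueField s)
  let g : Spec (CommRingCat.of (AlgebraicClosure (S.residueField s))) ⟶ Spec (CommRingCat.of (S.residueField s)) :=
    Spec.map (CommRingCat.ofHom (algebraMap (S.residueField s) (AlgebraicClosure (S.residueField s))))
  haveI : Surjective g := GrpSchLib.surjective_spec_map_field _
  haveI : Flat g := MorLib.BF.flat_to_field (Field.toIsField (S.residueField s)) g
  have hs : Smooth (pullback.snd q g) := by
    haveI := h s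
    rw [show pullback.snd q g =
      (pullbackLeftPullbackSndIso X.hom (S.fromSpecResidueField s) g).hom ≫ (Red.geomFibre s X).hom from
        (pullbackLeftPullbackSndIso_hom_snd _ _ _).symm]
    infer_instance
  exact MorphismProperty.of_pullback_snd_of_descendsAlong (P := @Smooth)
    (Q := @Surjective ⊓ @Flat ⊓ @QuasiCompact) (g := g) ⟨⟨inferInstance, inferInstance⟩, inferInstance⟩ hs

/-- The preimage of a subgroup whose fibres contain Cartan subgroups, under a homomorphism with central kernel. -/
theorem preimage {G G' H' : Over S} [GrpObj G] [GrpObj G'] [GrpObj H'] [Smooth G.hom] [QuasiCompact G.hom]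
    [Smooth G'.hom] [QuasiCompact G'.hom] [QuasiSeparated G'.hom] [Smooth H'.hom] [QuasiCompact H'.hom]
    (hconn : ∀ s : S, _root_.IsConnected (G.hom.base ⁻¹' {s})) (u : G ⟶ G') [IsMonHom u]
    (hu : ∀ s : S, Surjective ((Over.pullback (S.fromSpecResidueField s)).map u).left)
    (hker : ∀ (X : Over S) (z : X ⟶ G), z ≫ u = 1 → ∀ (g : X ⟶ G), z * g = g * z)
    (h' : H' ⟶ G') [IsMonHom h'] [Mono h']
    (hH' : ∀ s : S, ∃ (C' : Over (Spec (CommRingCat.of (AlgebraicClosure (S.residueField s))))) (_ : GrpObj C')
      (c' : C' ⟶ Red.geomFibre s H'), SGA3x.IsCartanOver _ (c' ≫ (Over.pullback (Red.geomPt s)).map h'))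
    {E : Over S} (f : E ⟶ H') (g : E ⟶ G) (sq : IsPullback f g h' u) :
    Smooth E.hom ∧ QuasiCompact E.hom ∧
    (∀ s : S, ∃ (C : Over (Spec (CommRingCat.of (AlgebraicClosure (S.residueField s))))) (_ : GrpObj C)
      (c : C ⟶ Red.geomFibre s E), SGA3x.IsCartanOver _ (c ≫ (Over.pullback (Red.geomPt s)).map g)) ∧
    ((∀ s : S, _root_.IsConnected (E.hom.base ⁻¹' {s})) ↔ ∀ s : S, _root_.IsConnected (H'.hom.base ⁻¹' {s})) := by
  obtain ⟨huf, hus, hup⟩ := flat_surjective_of_fibres u hu
  haveI := huf; haveI := hus; haveI := hup
  haveI : QuasiCompact u.left := by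
    haveI : QuasiCompact (u.left ≫ G'.hom) := by rw [Over.w]; infer_instance
    exact QuasiCompact.of_comp u.left G'.hom
  have sqL := sq.map (Over.forget _)
  haveI : Surjective f.left := MorphismProperty.of_isPullback (P := @Surjective) sqL.flip hus
  haveI : Flat f.left := MorphismProperty.of_isPullback (P := @Flat) sqL.flip huf
  haveI : QuasiCompact f.left := MorphismProperty.of_isPullback (P := @QuasiCompact) sqL.flip ‹_›
  haveI : LocallyOfFinitePresentation f.left :=
    MorphismProperty.of_isPullback (P := @LocallyOfFinitePresentation) sqL.flip hup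
  haveI : Flat E.hom := by rw [← Over.w f]; infer_instance
  haveI : LocallyOfFinitePresentation E.hom := by rw [← Over.w f]; infer_instance
  haveI : Mono g := sq.mono_snd_of_mono
  obtain ⟨strE, hgm, hfm⟩ := TorusField.exists_grp_pullback u h' g f sq.flip
  letI := strE
  haveI := hgm; haveI := hfm
  have key : ∀ s : S, Smooth (Red.geomFibre s E).hom ∧
      (∃ (C : Over (Spec (CommRingCat.of (AlgebraicClosure (S.residueField s))))) (_ : GrpObj C)
        (c : C ⟶ Red.geomFibre s E), SGA3x.IsCartanOver _ (c ≫ (Over.pullback (Red.geomPt s)).map g)) ∧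
      (ConnectedSpace (Red.geomFibre s H').left → ConnectedSpace (Red.geomFibre s E).left) := fun s => by
    let b := Red.geomPt s
    let F := Over.pullback b
    haveI : F.IsRightAdjoint := (Over.mapPullbackAdj b).isRightAdjoint
    haveI : Smooth (Red.geomFibre s G).hom := inferInstanceAs (Smooth (pullback.snd G.hom b))
    haveI : Smooth (Red.geomFibre s G').hom := inferInstanceAs (Smooth (pullback.snd G'.hom b))
    haveI : Smooth (Red.geomFibre s H').hom := inferInstanceAs (Smooth (pullback.snd H'.hom b))
    haveI : QuasiCompact (Red.geomFibre s G).hom := inferInstanceAs (QuasiCompact (pullback.snd G.hom b))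
    haveI : QuasiCompact (Red.geomFibre s G').hom := inferInstanceAs (QuasiCompact (pullback.snd G'.hom b))
    haveI : QuasiCompact (Red.geomFibre s H').hom := inferInstanceAs (QuasiCompact (pullback.snd H'.hom b))
    haveI := FixTorus.connectedSpace_geomFibre s (hconn s)
    haveI : Surjective (F.map u).left := MorphismProperty.overPullbackMap (P := @Surjective) _ u hus
    haveI : Flat (F.map u).left := MorphismProperty.overPullbackMap (P := @Flat) _ u huf
    obtain ⟨C', _, c', hC'⟩ := hH' s
    refine preimage_field (F.map u) (fun X z hz g' => ?_) (F.map h') c' hC' (F.map f) (F.map g) (sq.map F)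
    apply (DSPtsLib.theta_bijective (g := b) (Y := X) (H := G)).1
    rw [DSPtsLib.theta_mul, DSPtsLib.theta_mul]
    refine hker _ _ ?_ _
    rw [← SubgroupNbhd.theta_map, hz, HomUnitLocus.theta_one]
  refine ⟨smooth_of_geomFibres E fun s => (key s).1, by rw [← Over.w f]; infer_instance, fun s => (key s).2.1,
    ⟨fun h s => ?_, fun h s => ?_⟩⟩
  · have himg : f.left.base '' (E.hom.base ⁻¹' {s}) = H'.hom.base ⁻¹' {s} := by
      rw [show E.hom.base ⁻¹' {s} = f.left.base ⁻¹' (H'.hom.base ⁻¹' {s}) by rw [← Over.w f]; rfl]
      exact Set.image_preimage_eq _ f.left.surjective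
    rw [← himg]
    exact (h s).image _ f.left.continuous.continuousOn
  · haveI := FixTorus.connectedSpace_geomFibre s (h s)
    haveI := (key s).2.2 inferInstance
    exact FixTorus.isConnected_preimage_of_geomFibre E s

end Groth.Agent.CartanPre
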