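import Groth.Agent.CartanPre.Borel
import Groth.Agent.CartanPre.DescendSat
import Groth.Agent.CartanPre.Main
import Groth.Agent.CartanIn.Main
import Groth.Agent.TorsionCent.Tuple
import Groth.Agent.S4656

/-!
# Borel subgroups under a faithfully flat homomorphism with central kernel
-/

set_option backward.isDefEq.respectTransparency false
set_option backward.isDefEq.respectTransparency.types false
set_option linter.style.haveILetI false
set_option autoImplicit false
set_option maxHeartbeats 1000000
set_option synthInstance.maxHeartbeats 200000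

universe u

open CategoryTheory Limits MonoidalCategory CartesianMonoidalCategory MonObj AlgebraicGeometry

namespace Groth.Agent.CartanPre

open GrpSchLib GrpLimLib

variable {S : Scheme.{u}} {G G' : Over S} [GrpObj G] [GrpObj G'] [Smooth G.hom] [QuasiCompact G.hom]
  [IsSeparated G.hom] [Smooth G'.hom] [QuasiCompact G'.hom] [IsSeparated G'.hom] (u : G ⟶ G') [IsMonHom u]
  [Flat u.left] [Surjective u.left] (hconn : ∀ s : S, _root_.IsConnected (G.hom.base ⁻¹' {s}))
  (hker : ∀ (X : Over S) (z : X ⟶ G), z ≫ u = 1 → ∀ (g : X ⟶ G), z * g = g * z)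

omit [Smooth G.hom] [QuasiCompact G.hom] [IsSeparated G.hom] [Smooth G'.hom] [QuasiCompact G'.hom]
  [IsSeparated G'.hom] [Flat u.left] [Surjective u.left] in
include hker in
/-- The kernel stays central on geometric fibres. -/
theorem ker_central_fibre (s : S) (X : Over (Spec (CommRingCat.of (AlgebraicClosure (S.residueField s)))))
    (z : X ⟶ Red.geomFibre s G) (hz : z ≫ (Over.pullback (Red.geomPt s)).map u = 1) (g : X ⟶ Red.geomFibre s G) :
    z * g = g * z := by
  apply (DSPtsLib.theta_bijective (g := Red.geomPt s) (Y := X) (H := G)).1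
  rw [DSPtsLib.theta_mul, DSPtsLib.theta_mul]
  refine hker _ _ ?_ _
  rw [← SubgroupNbhd.theta_map, hz, HomUnitLocus.theta_one]

include hconn hker in
/-- The inverse image of a Borel subgroup over a base. -/
theorem borel_preimage {B' B : Over S} [GrpObj B'] [GrpObj B] (b' : B' ⟶ G') [IsMonHom b'] [Mono b'] [Smooth B'.hom]
    [QuasiCompact B'.hom]
    (hB' : ∀ s : S, Red.IsBorelOver (AlgebraicClosure (S.residueField s)) ((Over.pullback (Red.geomPt s)).map b'))
    (b : B ⟶ G) (v : B ⟶ B') [IsMonHom b] [IsMonHom v] (sq : IsPullback v b b' u) :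
    Mono b ∧ Smooth B.hom ∧ QuasiCompact B.hom ∧
      ∀ s : S, Red.IsBorelOver (AlgebraicClosure (S.residueField s)) ((Over.pullback (Red.geomPt s)).map b) := by
  haveI : LocallyOfFinitePresentation u.left := by
    haveI : LocallyOfFinitePresentation (u.left ≫ G'.hom) := by rw [Over.w]; infer_instance
    exact AlgSpPts.locallyOfFinitePresentation_of_comp u.left G'.hom
  haveI : QuasiCompact u.left := by
    haveI : QuasiCompact (u.left ≫ G'.hom) := by rw [Over.w]; infer_instance
    exact QuasiCompact.of_comp u.left G'.hom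
  have sqL : IsPullback v.left b.left b'.left u.left := sq.map (Over.forget _)
  haveI : Flat v.left := MorphismProperty.of_isPullback (P := @Flat) sqL.flip ‹Flat u.left›
  haveI : LocallyOfFinitePresentation v.left :=
    MorphismProperty.of_isPullback (P := @LocallyOfFinitePresentation) sqL.flip ‹_›
  haveI : QuasiCompact v.left := MorphismProperty.of_isPullback (P := @QuasiCompact) sqL.flip ‹_›
  haveI : Flat B.hom := by rw [← Over.w v]; infer_instance
  haveI : LocallyOfFinitePresentation B.hom := by rw [← Over.w v]; infer_instance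
  have key : ∀ s : S,
      Red.IsBorelOver (AlgebraicClosure (S.residueField s)) ((Over.pullback (Red.geomPt s)).map b) := fun s => by
    let F := Over.pullback (Red.geomPt s)
    haveI : F.IsRightAdjoint := (Over.mapPullbackAdj (Red.geomPt s)).isRightAdjoint
    haveI : Smooth (Red.geomFibre s G).hom := inferInstanceAs (Smooth (pullback.snd G.hom (Red.geomPt s)))
    haveI : Smooth (Red.geomFibre s G').hom := inferInstanceAs (Smooth (pullback.snd G'.hom (Red.geomPt s)))
    haveI : QuasiCompact (Red.geomFibre s G).hom :=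
      inferInstanceAs (QuasiCompact (pullback.snd G.hom (Red.geomPt s)))
    haveI : QuasiCompact (Red.geomFibre s G').hom :=
      inferInstanceAs (QuasiCompact (pullback.snd G'.hom (Red.geomPt s)))
    haveI := FixTorus.connectedSpace_geomFibre s (hconn s)
    haveI : Surjective (F.map u).left := MorphismProperty.overPullbackMap (P := @Surjective) _ u ‹Surjective u.left›
    haveI : Flat (F.map u).left := MorphismProperty.overPullbackMap (P := @Flat) _ u ‹Flat u.left›
    exact isBorelOver_preimage (F.map u) (ker_central_fibre u hker s) (hB' s) (F.map v) (F.map b) (sq.map F)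
  exact ⟨sq.mono_snd_of_mono, smooth_of_geomFibres B fun s => (key s).2.2.1,
    by rw [← Over.w v]; infer_instance, key⟩

include hconn hker in
/-- The image of a Borel subgroup over a base. -/
theorem borel_image {B : Over S} [GrpObj B] (b : B ⟶ G) [IsMonHom b] [Mono b] [Smooth B.hom] [QuasiCompact B.hom]
    (hB : ∀ s : S, Red.IsBorelOver (AlgebraicClosure (S.residueField s)) ((Over.pullback (Red.geomPt s)).map b)) :
    ∃ (B' : Over S) (_ : GrpObj B') (b' : B' ⟶ G') (v : B ⟶ B'),
      (IsMonHom b' ∧ Mono b' ∧ Smooth B'.hom ∧ QuasiCompact B'.hom ∧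
        ∀ s : S, Red.IsBorelOver (AlgebraicClosure (S.residueField s)) ((Over.pullback (Red.geomPt s)).map b')) ∧
      IsMonHom v ∧ IsPullback v b b' u := by
  haveI : LocallyOfFinitePresentation u.left := by
    haveI : LocallyOfFinitePresentation (u.left ≫ G'.hom) := by rw [Over.w]; infer_instance
    exact AlgSpPts.locallyOfFinitePresentation_of_comp u.left G'.hom
  haveI : QuasiCompact u.left := by
    haveI : QuasiCompact (u.left ≫ G'.hom) := by rw [Over.w]; infer_instance
    exact QuasiCompact.of_comp u.left G'.hom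
  haveI : Mono b.left := inferInstance
  haveI : IsSeparated B.hom := by rw [← Over.w b]; infer_instance
  haveI : LocallyOfFinitePresentation b.left := by
    haveI : LocallyOfFinitePresentation (b.left ≫ G.hom) := by rw [Over.w]; infer_instance
    exact AlgSpPts.locallyOfFinitePresentation_of_comp b.left G.hom
  -- the kernel lies in `B`
  have hfac : ∀ (Y : Over S) (d : Y ⟶ G), d ≫ u = 1 → ∃ d', d' ≫ b = d := fun Y d hd =>
    CartanIn.exists_factor b (fun s => by
      haveI : Smooth (Red.geomFibre s G).hom := inferInstanceAs (Smooth (pullback.snd G.hom (Red.geomPt s)))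
      haveI : QuasiCompact (Red.geomFibre s G).hom :=
        inferInstanceAs (QuasiCompact (pullback.snd G.hom (Red.geomPt s)))
      haveI := FixTorus.connectedSpace_geomFibre s (hconn s)
      exact exists_cartan_in_borel (hB s)) d fun Y' x h => by
        have hxd : (x ≫ d) ≫ u = 1 := by rw [Category.assoc, hd, MonObj.comp_one]
        exact hker Y' (x ≫ d) hxd (h ≫ b)
  have hkey : ∀ (T : Scheme.{u}) (a c : T ⟶ G.left), a ≫ u.left = c ≫ u.left →
      (∃ l, l ≫ b.left = a) → ∃ l, l ≫ b.left = c := by
    intro T a c hac ⟨l, hl⟩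
    let Y : Over S := Over.mk (a ≫ G.hom)
    let a' : Y ⟶ G := Over.homMk a rfl
    let c' : Y ⟶ G := Over.homMk c (by
      show c ≫ G.hom = a ≫ G.hom
      rw [← Over.w u, ← Category.assoc, ← hac, Category.assoc])
    let l' : Y ⟶ B := Over.homMk l (by
      show l ≫ B.hom = a ≫ G.hom
      rw [← Over.w b, reassoc_of% hl])
    have hl' : l' ≫ b = a' := Over.OverMorphism.ext hl
    have hac' : a' ≫ u = c' ≫ u := Over.OverMorphism.ext hac
    obtain ⟨d, hd⟩ := hfac Y (c' * a'⁻¹) (by rw [MonObj.mul_comp, GrpObj.inv_comp, hac', mul_inv_cancel])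
    exact ⟨(d * l').left, by
      rw [← Over.comp_left, MonObj.mul_comp, hd, hl', inv_mul_cancel_right]; rfl⟩
  obtain ⟨Z, i, q, hi, sqZ⟩ := exists_descend_saturated u.left b.left hkey
  haveI := hi
  let B' : Over S := Over.mk (i ≫ G'.hom)
  let b' : B' ⟶ G' := Over.homMk i rfl
  haveI : Mono b'.left := hi
  haveI : Mono b' := Over.mono_of_mono_left _
  let v : B ⟶ B' := Over.homMk q (by
    show q ≫ i ≫ G'.hom = B.hom
    rw [← Category.assoc, sqZ.w, Category.assoc, Over.w u, Over.w b])
  have sq : IsPullback v b b' u := IsPullback.of_map (Over.forget _) (Over.OverMorphism.ext sqZ.w) sqZ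
  haveI : Surjective q := MorphismProperty.of_isPullback (P := @Surjective) sqZ.flip ‹Surjective u.left›
  haveI : Flat q := MorphismProperty.of_isPullback (P := @Flat) sqZ.flip ‹Flat u.left›
  haveI : QuasiCompact q := MorphismProperty.of_isPullback (P := @QuasiCompact) sqZ.flip ‹_›
  have hcov : ∀ {Y : Over S} (a : Y ⟶ B'), ∃ (P : Over S) (π : P ⟶ Y) (l : P ⟶ B),
      FpqcDescLib.Covers π.left ∧ l ≫ v = π ≫ a := by
    intro Y a
    haveI : Surjective (pullback.fst a.left q) := inferInstance
    haveI : Flat (pullback.fst a.left q) := inferInstance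
    refine ⟨Over.mk (pullback.fst a.left q ≫ Y.hom), Over.homMk (pullback.fst a.left q) rfl,
      Over.homMk (pullback.snd a.left q) ?_, FpqcDescLib.covers_of_isCovering
        (FpqcDescLib.isCovering_of_quasiCompact (pullback.fst a.left q)), Over.OverMorphism.ext pullback.condition.symm⟩
    show pullback.snd a.left q ≫ B.hom = pullback.fst a.left q ≫ Y.hom
    rw [← Over.w v, ← Over.w a]
    exact ((Category.assoc _ _ _).symm.trans (congrArg (· ≫ B'.hom) pullback.condition.symm)).trans
      (Category.assoc _ _ _)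
  have hdesc : ∀ {Y P : Over S} (π : P ⟶ Y), FpqcDescLib.Covers π.left → ∀ (g : Y ⟶ G') (m : P ⟶ B'),
      m ≫ b' = π ≫ g → ∃ a, a ≫ b' = g := by
    intro Y P π hπ g m hm
    obtain ⟨l, hl⟩ := TorusQI.exists_fac_of_covers i g.left hπ m.left (congrArg CommaMorphism.left hm)
    exact ⟨Over.homMk l (by show l ≫ i ≫ G'.hom = Y.hom; rw [reassoc_of% hl, Over.w g]), Over.OverMorphism.ext hl⟩
  have hmul : ∀ {Y : Over S} (a c : Y ⟶ B'), ∃ e, e ≫ b' = (a ≫ b') * (c ≫ b') := by
    intro Y a c
    obtain ⟨P, π, l, hπ, hl⟩ := hcov a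
    obtain ⟨P', π', m, hπ', hm⟩ := hcov (π ≫ c)
    refine hdesc (π' ≫ π) (hπ'.comp hπ) _ (((π' ≫ l) * m) ≫ v) ?_
    rw [MonObj.comp_mul, Category.assoc _ v b', sq.w, ← Category.assoc _ b u, MonObj.mul_comp _ _ b, MonObj.mul_comp]
    simp only [Category.assoc, ← sq.w, reassoc_of% hl, reassoc_of% hm]
  have hinv : ∀ {Y : Over S} (a : Y ⟶ B'), ∃ e, e ≫ b' = (a ≫ b')⁻¹ := by
    intro Y a
    obtain ⟨P, π, l, hπ, hl⟩ := hcov a
    refine hdesc π hπ _ (l⁻¹ ≫ v) ?_
    rw [GrpObj.comp_inv, Category.assoc _ v b', sq.w, ← Category.assoc _ b u, GrpObj.inv_comp, GrpObj.inv_comp,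
      Category.assoc, ← sq.w, reassoc_of% hl]
  obtain ⟨strB', hb'⟩ := TorsionCent.exists_grp b' (fun {Y} g => ∃ a, a ≫ b' = g) (fun Y g => Iff.rfl)
    (fun Y => ⟨(1 : Y ⟶ B) ≫ v, by rw [Category.assoc, sq.w, reassoc_of% (MonObj.one_comp (X := Y) b),
      MonObj.one_comp]⟩)
    (fun {Y a c} ha hc => by obtain ⟨a, rfl⟩ := ha; obtain ⟨c, rfl⟩ := hc; exact hmul a c)
    (fun {Y a} ha => by obtain ⟨a, rfl⟩ := ha; exact hinv a)
  letI := strB'
  haveI := hb'
  haveI : IsMonHom v := MaxTorusBC.isMonHom_of_mono v b' (by rw [sq.w]; infer_instance)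
  haveI : LocallyOfFinitePresentation i :=
    MorphismProperty.of_isPullback_of_descendsAlong (P := @LocallyOfFinitePresentation)
      (Q := @Surjective ⊓ @Flat ⊓ @QuasiCompact) sqZ.flip ⟨⟨inferInstance, inferInstance⟩, inferInstance⟩ ‹_›
  haveI : LocallyOfFinitePresentation B'.hom := inferInstanceAs (LocallyOfFinitePresentation (i ≫ G'.hom))
  haveI : Flat B'.hom := Flat.of_stalkMap _ fun z => by
    obtain ⟨x, rfl⟩ := q.surjective z
    refine (S4656.result q B'.hom x (Flat.stalkMap _ _)).mp ?_
    haveI : Flat (q ≫ B'.hom) := by rw [show q ≫ B'.hom = B.hom from Over.w v]; infer_instance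
    exact Flat.stalkMap _ _
  haveI : QuasiCompact B'.hom := by
    haveI : QuasiCompact (q ≫ B'.hom) := by rw [show q ≫ B'.hom = B.hom from Over.w v]; infer_instance
    exact MorLib.quasiCompact_of_comp_surjective q B'.hom
  have key : ∀ s : S,
      Red.IsBorelOver (AlgebraicClosure (S.residueField s)) ((Over.pullback (Red.geomPt s)).map b') := fun s => by
    let F := Over.pullback (Red.geomPt s)
    haveI : F.IsRightAdjoint := (Over.mapPullbackAdj (Red.geomPt s)).isRightAdjoint
    haveI : Smooth (Red.geomFibre s G).hom := inferInstanceAs (Smooth (pullback.snd G.hom (Red.geomPt s)))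
    haveI : Smooth (Red.geomFibre s G').hom := inferInstanceAs (Smooth (pullback.snd G'.hom (Red.geomPt s)))
    haveI : QuasiCompact (Red.geomFibre s G).hom :=
      inferInstanceAs (QuasiCompact (pullback.snd G.hom (Red.geomPt s)))
    haveI : QuasiCompact (Red.geomFibre s G').hom :=
      inferInstanceAs (QuasiCompact (pullback.snd G'.hom (Red.geomPt s)))
    haveI := FixTorus.connectedSpace_geomFibre s (hconn s)
    haveI : Surjective (F.map u).left := MorphismProperty.overPullbackMap (P := @Surjective) _ u ‹Surjective u.left›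
    haveI : Flat (F.map u).left := MorphismProperty.overPullbackMap (P := @Flat) _ u ‹Flat u.left›
    exact isBorelOver_image (F.map u) (ker_central_fibre u hker s) (hB s) (F.map b') (F.map v) (sq.map F)
  exact ⟨B', inferInstance, b', v,
    ⟨inferInstance, inferInstance, smooth_of_geomFibres B' fun s => (key s).2.2.1, inferInstance, key⟩,
    inferInstance, sq⟩

end Groth.Agent.CartanPre
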