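import Groth.Agent.NonAffine.PartsImage
import Groth.Agent.GrpSchLib.RedSubgroup
import Groth.Agent.GrpSchLib.SemiabDescent
import Groth.Agent.GrpSchLib.HomFlatLft
import Groth.Agent.GrpSchLib.Cartier
import Groth.Agent.MaxTorusBC.Basic
import Groth.Agent.TorusQI.MaxSubtorus

/-!
# Preimages of subgroups containing a Cartan subgroup under a homomorphism with central kernel
-/

set_option backward.isDefEq.respectTransparency false
set_option backward.isDefEq.respectTransparency.types false
set_option linter.style.haveILetI false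
set_option autoImplicit false
set_option maxHeartbeats 1000000
set_option synthInstance.maxHeartbeats 200000

universe u

open CategoryTheory Limits MonoidalCategory CartesianMonoidalCategory MonObj AlgebraicGeometry

namespace Groth.Agent.CartanPre

open GrpSchLib AGFLib AGFLib.Gen

variable {K : Type u} [Field K] [IsAlgClosed K] {G G' H' : Over (Spec (CommRingCat.of K))} [GrpObj G] [GrpObj G']
  [GrpObj H'] [Smooth G.hom] [QuasiCompact G.hom] [ConnectedSpace G.left] [Smooth G'.hom] [QuasiCompact G'.hom]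
  [Smooth H'.hom] [QuasiCompact H'.hom]

/-- The kernel of the projection of a preimage lies in every Cartan subgroup lifted to it. -/
theorem exists_cartan_kill (u : G ⟶ G') [IsMonHom u]
    (hker : ∀ (X : Over (Spec (CommRingCat.of K))) (z : X ⟶ G), z ≫ u = 1 → ∀ (g : X ⟶ G), z * g = g * z)
    {C : Over (Spec (CommRingCat.of K))} [GrpObj C] {c : C ⟶ G} (hc : SGA3x.IsCartanOver K c)
    {h' : H' ⟶ G'} [IsMonHom h'] [Mono h'] {E : Over (Spec (CommRingCat.of K))} [GrpObj E] {f : E ⟶ H'} {g : E ⟶ G}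
    [IsMonHom f] [IsMonHom g] (sq : IsPullback f g h' u) (l : C ⟶ E) (hl : l ≫ g = c)
    {X : Over (Spec (CommRingCat.of K))} (x : X ⟶ E) (hx : x ≫ f = 1) : ∃ y : X ⟶ C, y ≫ l = x := by
  obtain ⟨hcm, hcmono, T, _, i, hT, hC⟩ := hc
  haveI := hcm; haveI := hcmono
  have hxu : (x ≫ g) ≫ u = 1 := by rw [Category.assoc, ← sq.w, reassoc_of% hx, MonObj.one_comp h']
  obtain ⟨y, hy⟩ := (hC.2.2 X (x ≫ g)).2 fun X' a t => by
    refine hker X' (a ≫ x ≫ g) ?_ (t ≫ i)
    rw [Category.assoc a, hxu, MonObj.comp_one]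
  refine ⟨y, sq.hom_ext ?_ (by rw [Category.assoc, hl, hy])⟩
  rw [← cancel_mono h', Category.assoc (y ≫ l), sq.w, hx, MonObj.one_comp h', ← Category.assoc, Category.assoc y,
    hl, hy, hxu]

/-- The preimage of a smooth subgroup containing a Cartan subgroup. -/
theorem preimage_field (u : G ⟶ G') [IsMonHom u] [Surjective u.left] [Flat u.left]
    (hker : ∀ (X : Over (Spec (CommRingCat.of K))) (z : X ⟶ G), z ≫ u = 1 → ∀ (g : X ⟶ G), z * g = g * z)
    (h' : H' ⟶ G') [IsMonHom h'] [Mono h'] {C' : Over (Spec (CommRingCat.of K))} [GrpObj C'] (c' : C' ⟶ H')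
    (hC' : SGA3x.IsCartanOver K (c' ≫ h'))
    {E : Over (Spec (CommRingCat.of K))} [GrpObj E] (f : E ⟶ H') (g : E ⟶ G)
    [IsMonHom f] [IsMonHom g] (sq : IsPullback f g h' u) :
    Smooth E.hom ∧
    (∃ (C : Over (Spec (CommRingCat.of K))) (_ : GrpObj C) (l : C ⟶ E), SGA3x.IsCartanOver K (l ≫ g)) ∧
    (ConnectedSpace H'.left → ConnectedSpace E.left) := by
  haveI := AntiAffine.isSeparated_grp G
  haveI := AntiAffine.isSeparated_grp G'
  haveI := AntiAffine.isSeparated_grp H'
  haveI : ConnectedSpace G'.left := u.left.surjective.connectedSpace u.left.continuous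
  haveI : LocallyOfFinitePresentation u.left := by
    haveI : LocallyOfFinitePresentation (u.left ≫ G'.hom) := by rw [Over.w]; infer_instance
    exact AlgSpPts.locallyOfFinitePresentation_of_comp u.left G'.hom
  haveI : QuasiCompact u.left := by
    haveI : QuasiCompact (u.left ≫ G'.hom) := by rw [Over.w]; infer_instance
    exact QuasiCompact.of_comp u.left G'.hom
  have sqL := (sq.map (Over.forget _))
  haveI : Surjective f.left := MorphismProperty.of_isPullback (P := @Surjective) sqL.flip ‹_›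
  haveI : Flat f.left := MorphismProperty.of_isPullback (P := @Flat) sqL.flip ‹_›
  haveI : QuasiCompact f.left := MorphismProperty.of_isPullback (P := @QuasiCompact) sqL.flip ‹_›
  haveI : LocallyOfFinitePresentation f.left :=
    MorphismProperty.of_isPullback (P := @LocallyOfFinitePresentation) sqL.flip ‹_›
  haveI : LocallyOfFiniteType E.hom := by rw [← Over.w f]; infer_instance
  haveI : QuasiCompact E.hom := by rw [← Over.w f]; infer_instance
  obtain ⟨C, _, c, w, hc, hw, -, -, hwc⟩ := NonAffine.exists_cartan_over u hC'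
  haveI := hw; haveI := hc.1; haveI := hc.2.1
  let l : C ⟶ E := sq.lift (w ≫ c') c (by rw [Category.assoc]; exact hwc)
  have hl : l ≫ g = c := sq.lift_snd _ _ _
  obtain ⟨hCs, hCc⟩ : Smooth C.hom ∧ ConnectedSpace C.left := by
    obtain ⟨-, -, T, _, i, hT, hC⟩ := hc
    haveI := hT.1
    exact NonAffine.smooth_connected_centralizer i hT.2.2.1 hC
  haveI := hCs; haveI := hCc
  haveI : IsReduced C.left := isReduced_of_smooth_field C.hom
  -- smoothness
  obtain ⟨R, _, e, he, hec, hRr, hes, hRl, hRq⟩ := RedSubgroup.exists_redSubgroup E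
  haveI := he; haveI := hec; haveI := hRr; haveI := hes; haveI := hRl; haveI := hRq
  haveI : Smooth R.hom := smooth_of_isReduced_of_isAlgClosed R
  haveI : Mono e := (Over.forget _).mono_of_mono_map (inferInstanceAs (Mono e.left))
  haveI : Surjective (e ≫ f).left := inferInstanceAs (Surjective (e.left ≫ f.left))
  haveI : GeometricallyReduced H'.hom := GrpSchLib.IsogenyFibre.geometricallyReduced_of_smooth' H'.hom
  haveI : Flat (e ≫ f).left := (HomFlatLft.flat_hom (e ≫ f)).1
  haveI : LocallyOfFinitePresentation (e ≫ f).left := by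
    haveI : LocallyOfFinitePresentation ((e ≫ f).left ≫ H'.hom) := by rw [Over.w]; infer_instance
    exact AlgSpPts.locallyOfFinitePresentation_of_comp (e ≫ f).left H'.hom
  obtain ⟨l₀, hl₀⟩ := H23.RedSub.exists_lift_closed l.left e.left (by
    rw [e.left.surjective.range_eq]; exact Set.subset_univ _)
  let l' : C ⟶ R := Over.homMk l₀ (by rw [← Over.w e, reassoc_of% hl₀, Over.w l])
  have hl' : l' ≫ e = l := Over.OverMorphism.ext hl₀
  haveI : IsIso e := by
    let P : Over (Spec (CommRingCat.of K)) := Over.mk (pullback.fst f.left (e ≫ f).left ≫ E.hom)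
    let p : P ⟶ E := Over.homMk (pullback.fst f.left (e ≫ f).left) rfl
    let y : P ⟶ R := Over.homMk (pullback.snd f.left (e ≫ f).left) (by
      show pullback.snd f.left (e ≫ f).left ≫ R.hom = pullback.fst f.left (e ≫ f).left ≫ E.hom
      rw [← Over.w (e ≫ f), ← pullback.condition_assoc, Over.w f])
    have hpy : p ≫ f = (y ≫ e) ≫ f := Over.OverMorphism.ext (by
      simp only [p, y, Over.comp_left, Over.homMk_left, Category.assoc]; exact pullback.condition)
    obtain ⟨z, hz⟩ := exists_cartan_kill u hker hc sq l hl (p * (y ≫ e)⁻¹)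
      (by rw [MonObj.mul_comp, GrpObj.inv_comp, hpy, mul_inv_cancel])
    have hp : ((z ≫ l') * y) ≫ e = p := by rw [MonObj.mul_comp, Category.assoc, hl', hz, inv_mul_cancel_right]
    haveI : Mono e.left := inferInstance
    obtain ⟨v, hv⟩ := TorusQI.exists_fac_of_covers e.left (𝟙 E.left) (p := p.left)
      (FpqcDescLib.covers_of_isCovering (FpqcDescLib.isCovering_of_lfp (pullback.fst f.left (e ≫ f).left)))
      ((z ≫ l') * y).left (by rw [Category.comp_id, ← Over.comp_left, hp])
    haveI : IsSplitEpi e.left := IsSplitEpi.mk' ⟨v, hv⟩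
    haveI : IsIso e.left := isIso_of_mono_of_isSplitEpi _
    haveI : IsIso ((Over.forget _).map e) := ‹IsIso e.left›
    exact isIso_of_reflects_iso e (Over.forget _)
  haveI : IsIso e.left := inferInstanceAs (IsIso ((Over.forget _).map e))
  have hEs : Smooth E.hom := by
    have : E.hom = inv e.left ≫ R.hom := by rw [IsIso.eq_inv_comp, Over.w e]
    rw [this]; infer_instance
  refine ⟨hEs, ⟨C, inferInstance, l, by rw [hl]; exact hc⟩, fun hH => ?_⟩
  haveI := hH
  haveI : Mono g := sq.mono_snd_of_mono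
  haveI : IsMonHom l := MaxTorusBC.isMonHom_of_mono l g (by rw [hl]; infer_instance)

  haveI : Nonempty E.left := ⟨η[E].left (IsLocalRing.closedPoint K)⟩
  refine connectedSpace_iff_clopen.mpr ⟨inferInstance, fun U hU => ?_⟩
  haveI : JacobsonSpace E.left := LocallyOfFiniteType.jacobsonSpace E.hom
  haveI : JacobsonSpace H'.left := LocallyOfFiniteType.jacobsonSpace H'.hom
  by_contra hne
  push Not at hne
  -- the fibres over rational points are connected
  have hsat : ∀ x z : 𝟙_ (Over (Spec (CommRingCat.of K))) ⟶ E, x ≫ f = z ≫ f → cp z ∈ U → cp x ∈ U := by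
    intro x z hxz hz
    obtain ⟨n₀, hn₀⟩ := exists_cartan_kill u hker hc sq l hl (x * z⁻¹)
      (by rw [MonObj.mul_comp, GrpObj.inv_comp, hxz, mul_inv_cancel])
    let t : C ⟶ E := l * (toUnit C ≫ z)
    have hcl := hU.preimage t.left.continuous
    have ht : ∀ n : 𝟙_ (Over (Spec (CommRingCat.of K))) ⟶ C, t.left (cp n) = cp ((n ≫ l) * z) := fun n => by
      rw [← cp_comp, MonObj.comp_mul, ← Category.assoc n (toUnit C), toUnit_unique (n ≫ toUnit C) (𝟙 _),
        Category.id_comp]
    have h1 : cp (1 : 𝟙_ (Over (Spec (CommRingCat.of K))) ⟶ C) ∈ t.left ⁻¹' U := by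
      show t.left _ ∈ U
      rwa [ht, MonObj.one_comp, _root_.one_mul]
    have hall := hcl.eq_univ ⟨_, h1⟩
    have h2 : cp n₀ ∈ t.left ⁻¹' U := hall ▸ Set.mem_univ _
    change t.left _ ∈ U at h2
    rwa [ht, hn₀, inv_mul_cancel_right] at h2
  have hopen : ∀ W : Set E.left, IsOpen W → IsOpen (f.left '' W) := fun W hW => f.left.isOpenMap W hW
  have hdisj : Disjoint (f.left '' U) (f.left '' Uᶜ) := by
    by_contra hnd
    obtain ⟨y₀, hy₀⟩ := Set.not_disjoint_iff_nonempty_inter.mp hnd
    obtain ⟨y, hy, hyc⟩ := nonempty_inter_closedPoints ⟨y₀, hy₀⟩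
      ((hopen _ hU.2).inter (hopen _ hU.1.isOpen_compl)).isLocallyClosed
    have hlift : ∀ W : Set E.left, IsClosed W → y ∈ f.left '' W →
        ∃ x : 𝟙_ (Over (Spec (CommRingCat.of K))) ⟶ E, cp x ∈ W ∧ f.left (cp x) = y := by
      intro W hW hyW
      obtain ⟨w, hw, hwy⟩ := hyW
      obtain ⟨v, ⟨hv, hvy⟩, hvc⟩ := nonempty_inter_closedPoints (Z := W ∩ f.left ⁻¹' {y}) ⟨w, hw, hwy⟩
        (hW.inter ((hyc : IsClosed {y}).preimage f.left.continuous)).isLocallyClosed
      obtain ⟨x, rfl⟩ := exists_cp (hvc : IsClosed {v})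
      exact ⟨x, hv, hvy⟩
    obtain ⟨z, hz, hzy⟩ := hlift U hU.1 hy.1
    obtain ⟨x, hx, hxy⟩ := hlift Uᶜ hU.2.isClosed_compl hy.2
    refine hx (hsat x z (cp_injective ?_) hz)
    rw [cp_comp, cp_comp, hxy, hzy]
  have hcov : f.left '' U ∪ f.left '' Uᶜ = Set.univ := by
    rw [← Set.image_union, Set.union_compl_self, Set.image_univ, f.left.surjective.range_eq]
  have hclo : IsClosed (f.left '' U) := by
    rw [show f.left '' U = (f.left '' Uᶜ)ᶜ from
      (IsCompl.of_eq (disjoint_iff.mp hdisj) hcov).eq_compl]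
    exact (hopen _ hU.1.isOpen_compl).isClosed_compl
  rcases isClopen_iff.mp (⟨hclo, hopen _ hU.2⟩ : IsClopen (f.left '' U)) with h | h
  · exact hne.1.ne_empty (Set.image_eq_empty.mp h)
  · rw [h] at hdisj
    exact hne.2 (Set.compl_empty_iff.mp (Set.image_eq_empty.mp (disjoint_top.mp hdisj.symm)))

end Groth.Agent.CartanPre
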